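import Mathlib

/-!
Resolutions of bounded below complexes by objects in a cogenerating class.
-/

universe v u

open CategoryTheory CategoryTheory.Limits HomologicalComplex
open scoped ZeroObject

namespace Groth.Agent.CxRes

variable {A : Type u} [Category.{v} A] [Abelian A]

@[reassoc]
theorem comp_cokernel_π {X Y Z : A} (f : X ⟶ Y) (g : Y ⟶ Z) : f ≫ g ≫ cokernel.π (f ≫ g) = 0 :=
  (Category.assoc _ _ _).symm.trans (cokernel.condition _)

theorem exists_of_pushout {X Y Z W : A} (t : X ⟶ Y) (l : X ⟶ Z) (a : W ⟶ Y) (b : W ⟶ Z)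
    (h : a ≫ pushout.inl t l = b ≫ pushout.inr t l) :
    ∃ (W' : A) (π : W' ⟶ W) (_ : Epi π) (w : W' ⟶ X), π ≫ a = w ≫ t ∧ π ≫ b = w ≫ l := by
  let S : ShortComplex A := ShortComplex.mk (biprod.lift t (-l)) (biprod.desc (pushout.inl t l) (pushout.inr t l))
    (by simp [pushout.condition])
  have hS : S.Exact := (IsPushout.of_hasPushout t l).exact_shortComplex
  obtain ⟨W', π, hπ, w, hw⟩ := hS.exact_up_to_refinements (biprod.lift a (-b)) (by simp [S, h])
  have h₁ := congrArg (· ≫ biprod.fst) hw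
  have h₂ := congrArg (· ≫ biprod.snd) hw
  exact ⟨W', π, hπ, w, by simpa [S] using h₁, by simpa [S] using h₂⟩

section nat

variable (I : A → Prop) (hI : ∀ X : A, ∃ (Y : A) (ι : X ⟶ Y), I Y ∧ Mono ι) (K : CochainComplex A ℕ)

/-- a stage of the construction -/
structure St (k : ℕ) where
  X : A
  hX : I X
  f : K.X k ⟶ X
  hf : Mono f
  C : A
  p : X ⟶ C
  hp : Epi p
  γ : K.opcycles k ⟶ C
  hγ : Mono γ
  w : K.pOpcycles k ≫ γ = f ≫ p

/-- chosen embedding -/
noncomputable def emb (X : A) : A := (hI X).choose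

/-- the embedding map -/
noncomputable def embι (X : A) : X ⟶ emb I hI X := (hI X).choose_spec.choose

instance (X : A) : Mono (embι I hI X) := (hI X).choose_spec.choose_spec.2

/-- first stage -/
noncomputable def init : St I K 0 where
  X := emb I hI (K.X 0)
  hX := (hI _).choose_spec.choose_spec.1
  f := embι I hI _
  hf := inferInstance
  C := emb I hI (K.X 0)
  p := 𝟙 _
  hp := inferInstance
  γ := inv (K.pOpcycles 0) ≫ embι I hI _
  hγ := inferInstance
  w := by simp

variable {I K}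

/-- the differential out of a stage -/
noncomputable def dNext {k : ℕ} (s : St I K k) : s.X ⟶ emb I hI (pushout s.γ (K.fromOpcycles k (k + 1))) :=
  s.p ≫ pushout.inl _ _ ≫ embι I hI _

theorem mono_step {k : ℕ} (s : St I K k) : Mono (K.descOpcycles
    ((pushout.inr s.γ (K.fromOpcycles k (k + 1)) ≫ embι I hI _) ≫
      cokernel.π (pushout.inl s.γ (K.fromOpcycles k (k + 1)) ≫ embι I hI _)) k (by simp) (by
    rw [← K.p_fromOpcycles k (k + 1)]
    simp only [Category.assoc, ← pushout.condition_assoc, comp_cokernel_π, comp_zero])) := by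
  refine Preadditive.mono_of_cancel_zero _ fun {W} x hx => ?_
  obtain ⟨W₁, π₁, _, y, hy⟩ := surjective_up_to_refinements_of_epi (K.pOpcycles (k + 1)) x
  have h : (y ≫ pushout.inr s.γ (K.fromOpcycles k (k + 1)) ≫ embι I hI _) ≫
      cokernel.π (pushout.inl s.γ (K.fromOpcycles k (k + 1)) ≫ embι I hI _) = 0 := by
    have := congrArg (π₁ ≫ ·) hx
    simp only [comp_zero, reassoc_of% hy, p_descOpcycles, Category.assoc] at this ⊢
    exact this
  obtain ⟨W₂, π₂, hπ₂, (z : W₂ ⟶ s.C), (hz : π₂ ≫ y ≫ pushout.inr s.γ (K.fromOpcycles k (k + 1)) ≫ embι I hI _ =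
      z ≫ pushout.inl s.γ (K.fromOpcycles k (k + 1)) ≫ embι I hI _)⟩ := (ShortComplex.exact_cokernel
    (pushout.inl s.γ (K.fromOpcycles k (k + 1)) ≫ embι I hI _)).exact_up_to_refinements _ h
  obtain ⟨W₃, π₃, hπ₃, w, -, hw'⟩ := exists_of_pushout s.γ (K.fromOpcycles k (k + 1)) z (π₂ ≫ y) (by
    rw [← cancel_mono (embι I hI _)]
    simpa using hz.symm)
  obtain ⟨W₄, π₄, _, v, hv⟩ := surjective_up_to_refinements_of_epi (K.pOpcycles k) w
  rw [← cancel_epi π₁, ← cancel_epi π₂, ← cancel_epi π₃, ← cancel_epi π₄, comp_zero, comp_zero, comp_zero, comp_zero,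
    hy, reassoc_of% hw', reassoc_of% hv, p_fromOpcycles_assoc, d_pOpcycles, comp_zero]

/-- next stage -/
noncomputable def step {k : ℕ} (s : St I K k) : St I K (k + 1) where
  X := emb I hI (pushout s.γ (K.fromOpcycles k (k + 1)))
  hX := (hI _).choose_spec.choose_spec.1
  f := pushout.inr _ _ ≫ embι I hI _
  hf := by
    haveI := s.hγ
    exact inferInstance
  C := cokernel (pushout.inl s.γ (K.fromOpcycles k (k + 1)) ≫ embι I hI _)
  p := cokernel.π _
  hp := inferInstance
  γ := K.descOpcycles ((pushout.inr s.γ (K.fromOpcycles k (k + 1)) ≫ embι I hI _) ≫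
      cokernel.π (pushout.inl s.γ (K.fromOpcycles k (k + 1)) ≫ embι I hI _)) k (by simp) (by
    rw [← K.p_fromOpcycles k (k + 1)]
    simp only [Category.assoc, ← pushout.condition_assoc, comp_cokernel_π, comp_zero])
  hγ := mono_step hI s
  w := by simp

variable (I K)

/-- all stages -/
noncomputable def stage : ∀ k, St I K k
  | 0 => init I hI K
  | k + 1 => step hI (stage k)

/-- the resolution -/
noncomputable def resCx : CochainComplex A ℕ :=
  CochainComplex.of (fun k => (stage I hI K k).X) (fun k => dNext hI (stage I hI K k)) fun k => by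
    show dNext hI (stage I hI K k) ≫ dNext hI (step hI (stage I hI K k)) = 0
    simp only [dNext, Category.assoc]
    show (stage I hI K k).p ≫ pushout.inl _ _ ≫ embι I hI _ ≫
      cokernel.π (pushout.inl (stage I hI K k).γ (K.fromOpcycles k (k + 1)) ≫ embι I hI _) ≫ _ = 0
    rw [comp_cokernel_π_assoc, zero_comp, comp_zero]

theorem resCx_d (k : ℕ) : (resCx I hI K).d k (k + 1) = dNext hI (stage I hI K k) :=
  CochainComplex.of_d (fun k => (stage I hI K k).X) (fun k => dNext hI (stage I hI K k)) k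

/-- the map to the resolution -/
noncomputable def resMap : K ⟶ resCx I hI K :=
  CochainComplex.ofHom (fun k => (stage I hI K k).f) fun k => by
    rw [resCx_d]
    show (stage I hI K k).f ≫ dNext hI (stage I hI K k) =
      K.d k (k + 1) ≫ pushout.inr _ _ ≫ embι I hI _
    rw [dNext, ← reassoc_of% (stage I hI K k).w, pushout.condition_assoc, K.p_fromOpcycles_assoc]

theorem mono_resMap (k : ℕ) : Mono ((resMap I hI K).f k) := (stage I hI K k).hf

theorem exists_boundary (k : ℕ) {W : A} (x : W ⟶ (resCx I hI K).X k) (h : x ≫ (stage I hI K k).p = 0) :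
    ∃ (W' : A) (π : W' ⟶ W) (_ : Epi π) (y : W' ⟶ (resCx I hI K).X ((ComplexShape.up ℕ).prev k)),
      π ≫ x = y ≫ (resCx I hI K).d ((ComplexShape.up ℕ).prev k) k := by
  cases k with
  | zero =>
    have h' : x = 0 := (Category.comp_id x).symm.trans h
    exact ⟨W, 𝟙 W, inferInstance, 0, by rw [h', comp_zero, zero_comp]⟩
  | succ j =>
    rw [show (ComplexShape.up ℕ).prev (j + 1) = j by simp]
    obtain ⟨W₁, π₁, h₁, (z : W₁ ⟶ (stage I hI K j).C), (hz : π₁ ≫ x = z ≫ pushout.inl _ _ ≫ embι I hI _)⟩ :=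
      (ShortComplex.exact_cokernel (pushout.inl (stage I hI K j).γ (K.fromOpcycles j (j + 1)) ≫ embι I hI _)).exact_up_to_refinements x h
    haveI := (stage I hI K j).hp
    obtain ⟨W₂, π₂, h₂, y, hy⟩ := surjective_up_to_refinements_of_epi (stage I hI K j).p z
    refine ⟨W₂, π₂ ≫ π₁, inferInstance, y, ?_⟩
    rw [resCx_d, Category.assoc, hz]
    exact (reassoc_of% hy) (pushout.inl _ _ ≫ embι I hI _)

theorem comp_d_p (j k : ℕ) : (resCx I hI K).d j k ≫ (stage I hI K k).p = 0 := by
  by_cases h : j + 1 = k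
  · subst h
    rw [resCx_d]
    show ((stage I hI K j).p ≫ pushout.inl _ _ ≫ embι I hI _) ≫
      cokernel.π (pushout.inl (stage I hI K j).γ (K.fromOpcycles j (j + 1)) ≫ embι I hI _) = 0
    rw [Category.assoc, Category.assoc, comp_cokernel_π, comp_zero]
  · rw [(resCx I hI K).shape _ _ h, zero_comp]

theorem quasiIso_resMap : QuasiIso (resMap I hI K) := by
  refine ⟨fun k => ?_⟩
  rw [quasiIsoAt_iff_isIso_homologyMap]
  have hk : (ComplexShape.up ℕ).next k = k + 1 := by simp
  refine @isIso_of_mono_of_epi _ _ _ _ _ _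
    ((mono_homologyMap_iff_up_to_refinements (resMap I hI K) _ k _ rfl hk).2 fun W x hx y hy => ?_)
    ((epi_homologyMap_iff_up_to_refinements (resMap I hI K) _ k _ rfl hk).2 fun W z hz => ?_)
  · have h : x ≫ K.pOpcycles k = 0 := by
      haveI := (stage I hI K k).hγ
      rw [← cancel_mono (stage I hI K k).γ, Category.assoc, (stage I hI K k).w, zero_comp]
      have hy' : (x ≫ (stage I hI K k).f) ≫ (stage I hI K k).p =
          (y ≫ (resCx I hI K).d _ k) ≫ (stage I hI K k).p := congrArg (· ≫ (stage I hI K k).p) hy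
      exact ((Category.assoc _ _ _).symm.trans hy').trans
        ((Category.assoc _ _ _).trans ((congrArg (y ≫ ·) (comp_d_p I hI K _ k)).trans comp_zero))
    exact (K.comp_pOpcycles_eq_zero_iff_up_to_refinements x _ rfl).1 h
  · change W ⟶ (stage I hI K k).X at z
    have hz' : (z ≫ (stage I hI K k).p) ≫ pushout.inl (stage I hI K k).γ (K.fromOpcycles k (k + 1)) = 0 := by
      rw [resCx_d] at hz
      rw [← cancel_mono (embι I hI _), zero_comp, Category.assoc, Category.assoc]
      exact hz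
    obtain ⟨W₁, π₁, h₁, w, hw₁, hw₂⟩ := exists_of_pushout (stage I hI K k).γ (K.fromOpcycles k (k + 1))
      (z ≫ (stage I hI K k).p) (0 : W ⟶ K.X (k + 1)) (by rw [hz', zero_comp])
    obtain ⟨W₂, π₂, h₂, x, hx⟩ := surjective_up_to_refinements_of_epi (K.pOpcycles k) w
    have hcyc : x ≫ K.d k (k + 1) = 0 := by
      rw [← K.p_fromOpcycles, ← reassoc_of% hx, ← hw₂, comp_zero, comp_zero]
    obtain ⟨W₃, π₃, h₃, y, hy⟩ := exists_boundary I hI K k ((π₂ ≫ π₁ ≫ z : W₂ ⟶ (resCx I hI K).X k) - x ≫ (resMap I hI K).f k) (by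
      show ((π₂ ≫ π₁ ≫ z : W₂ ⟶ (stage I hI K k).X) - x ≫ (stage I hI K k).f) ≫ (stage I hI K k).p = 0
      simp only [Preadditive.sub_comp, Category.assoc]
      rw [hw₁, ← (stage I hI K k).w, reassoc_of% hx, sub_self])
    refine ⟨W₃, π₃ ≫ π₂ ≫ π₁, inferInstance, π₃ ≫ x, by rw [Category.assoc, hcyc, comp_zero], y, ?_⟩
    rw [← hy]
    simp [Preadditive.comp_sub]

end nat

section int

/-- replace the terms by isomorphic ones -/
noncomputable def transport (L : CochainComplex A ℤ) (Y : ℤ → A) (e : ∀ i, L.X i ≅ Y i) : CochainComplex A ℤ where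
  X := Y
  d i j := (e i).inv ≫ L.d i j ≫ (e j).hom
  shape i j h := by rw [L.shape i j h, zero_comp, comp_zero]

/-- the transport isomorphism -/
noncomputable def transportIso (L : CochainComplex A ℤ) (Y : ℤ → A) (e : ∀ i, L.X i ≅ Y i) : L ≅ transport L Y e :=
  HomologicalComplex.Hom.isoOfComponents e fun i j _ => by simp [transport]

theorem exists_resolution (I : A → Prop) (hI0 : ∃ Z : A, IsZero Z ∧ I Z)
    (hI : ∀ X : A, ∃ (Y : A) (ι : X ⟶ Y), I Y ∧ Mono ι) (K : CochainComplex A ℤ) (a : ℤ) [K.IsStrictlyGE a] :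
    ∃ (L : CochainComplex A ℤ) (α : K ⟶ L), L.IsStrictlyGE a ∧ (∀ n, I (L.X n)) ∧ (∀ n, Mono (α.f n)) ∧ QuasiIso α := by
  classical
  obtain ⟨Z, hZ, hIZ⟩ := hI0
  let e := ComplexShape.embeddingUpIntGE a
  let K' := HomologicalComplex.truncGE' K e
  haveI : K.IsStrictlySupported e := inferInstanceAs (K.IsStrictlyGE a)
  haveI : IsIso (HomologicalComplex.πTruncGE K e) := inferInstance
  let L' := resCx I hI K'
  let φ : K ⟶ L'.extend e := HomologicalComplex.πTruncGE K e ≫ extendMap (resMap I hI K') e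
  haveI : QuasiIso (resMap I hI K') := quasiIso_resMap I hI K'
  haveI : QuasiIso (extendMap (resMap I hI K') e) := (quasiIso_extendMap_iff (resMap I hI K') e).2 inferInstance
  haveI : QuasiIso φ := (quasiIso_iff_comp_left (HomologicalComplex.πTruncGE K e) _).2
    ((quasiIso_extendMap_iff (resMap I hI K') e).2 inferInstance)
  have hm : ∀ n, Mono (φ.f n) := fun n => by
    have hme : Mono ((extendMap (resMap I hI K') e).f n) := by
      by_cases h : ∃ k : ℕ, e.f k = n
      · obtain ⟨k, hk⟩ := h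
        haveI := mono_resMap I hI K' k
        rw [extendMap_f _ e hk]
        infer_instance
      · exact IsZero.mono (K'.isZero_extend_X e n fun k hk => h ⟨k, hk⟩) _
    haveI h₁ : IsIso ((HomologicalComplex.eval A (ComplexShape.up ℤ) n).map (HomologicalComplex.πTruncGE K e)) := inferInstance
    haveI : IsIso ((HomologicalComplex.πTruncGE K e).f n) := h₁
    exact @mono_comp _ _ _ _ _ ((HomologicalComplex.πTruncGE K e).f n) _ ((extendMap (resMap I hI K') e).f n) hme
  let Y : ℤ → A := fun n => if a ≤ n then L'.X (n - a).toNat else Z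
  have hY : ∀ n, I (Y n) := fun n => by
    dsimp only [Y]
    split
    · exact (stage I hI K' _).hX
    · exact hIZ
  let ε : ∀ n, (L'.extend e).X n ≅ Y n := fun n =>
    if h : a ≤ n then
      L'.extendXIso e (show e.f (n - a).toNat = n by simp [e]; omega) ≪≫ eqToIso (by simp [Y, if_pos h])
    else
      (L'.isZero_extend_X e n (fun k hk => h (by simp [e] at hk; omega))).iso hZ ≪≫ eqToIso (by simp [Y, if_neg h])
  refine ⟨transport _ Y ε, φ ≫ (transportIso _ Y ε).hom, ?_, hY, fun n => ?_, quasiIso_comp _ _⟩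
  · exact (CochainComplex.isStrictlyGE_iff _ a).2 fun n hn => by
      show IsZero (Y n)
      simp only [Y, if_neg (not_le.2 hn)]
      exact hZ
  · haveI := hm n
    show Mono (φ.f n ≫ (ε n).hom)
    infer_instance

theorem exists_resolution' (I : A → Prop) (hI0 : ∃ Z : A, IsZero Z ∧ I Z)
    (hI : ∀ X : A, ∃ (Y : A) (ι : X ⟶ Y), I Y ∧ Mono ι) (K : CochainComplex A ℤ) (a : ℤ)
    (hK : ∀ n : ℤ, n < a → IsZero (K.homology n)) :
    ∃ (L : CochainComplex A ℤ) (α : K ⟶ L), L.IsStrictlyGE a ∧ (∀ n, I (L.X n)) ∧ QuasiIso α := by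
  haveI : K.IsGE a := (CochainComplex.isGE_iff K a).2 fun n hn => (exactAt_iff_isZero_homology K n).2 (hK n hn)
  obtain ⟨L, α, h₁, h₂, -, h₄⟩ := exists_resolution I hI0 hI (K.truncGE a) a
  exact ⟨L, CochainComplex.πTruncGE K a ≫ α, h₁, h₂, quasiIso_comp _ _⟩

end int

end Groth.Agent.CxRes
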