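import Groth.Agent.CxRes.Basic

/-!
A bounded below complex with cohomology in a weak Serre class `P` having enough injectives maps
quasi-isomorphically to a complex of injectives in `P`.
-/

universe v u

open CategoryTheory CategoryTheory.Limits HomologicalComplex
open scoped ZeroObject

namespace Groth.Agent.ClassRes

variable {A : Type u} [Category.{v} A] [Abelian A]

/-- the hypotheses on the class -/
structure Ctx (P : A → Prop) : Prop where
  iso : ∀ {X Y : A}, (X ≅ Y) → P X → P Y
  coker : ∀ {X Y : A} (f : X ⟶ Y), P X → P Y → P (cokernel f)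
  ext : ∀ S : ShortComplex A, S.ShortExact → P S.X₁ → P S.X₃ → P S.X₂
  emb : ∀ X : A, P X → ∃ (Y : A) (ι : X ⟶ Y), P Y ∧ Injective Y ∧ Mono ι

variable {P : A → Prop} (c : Ctx P)

section nat

variable (K : CochainComplex A ℕ) (hH : ∀ k, P (K.homology k))

/-- a stage of the construction -/
structure St (P : A → Prop) (K : CochainComplex A ℕ) (k : ℕ) where
  X : A
  hX : P X
  hXi : Injective X
  f : K.X k ⟶ X
  C : A
  hC : P C
  p : X ⟶ C
  hp : Epi p
  γ : K.opcycles k ⟶ C
  hγ : Mono (K.homologyι k ≫ γ)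
  w : K.pOpcycles k ≫ γ = f ≫ p

include c hH in
theorem nonempty_init : Nonempty {s : St P K 0 // IsIso s.p} := by
  obtain ⟨J, e, hJ, hJi, he⟩ := c.emb _ (hH 0)
  let g : K.opcycles 0 ⟶ J := Injective.factorThru e (K.homologyι 0)
  have hg : K.homologyι 0 ≫ g = e := Injective.comp_factorThru _ _
  let s₀ : St P K 0 := ⟨J, hJ, hJi, K.pOpcycles 0 ≫ g, J, hJ, 𝟙 J, inferInstance, g,
    by rw [hg]; exact he, (Category.comp_id _).symm⟩
  exact ⟨⟨s₀, inferInstanceAs (IsIso (𝟙 J))⟩⟩

include c hH in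
theorem exists_step {k : ℕ} (s : St P K k) :
    ∃ (t : St P K (k + 1)) (δ : s.C ⟶ t.X) (_ : δ ≫ t.p = 0),
      (∀ {W : A} (x : W ⟶ t.X), x ≫ t.p = 0 →
        ∃ (W' : A) (π : W' ⟶ W) (_ : Epi π) (z : W' ⟶ s.C), π ≫ x = z ≫ δ) ∧
      s.γ ≫ δ = K.fromOpcycles k (k + 1) ≫ t.f ∧
      (∀ {W : A} (x : W ⟶ s.C), x ≫ δ = 0 →
        ∃ (W' : A) (π : W' ⟶ W) (_ : Epi π) (u : W' ⟶ K.homology k),
          π ≫ x = u ≫ K.homologyι k ≫ s.γ) := by
  let o : K.opcycles k ⟶ K.cycles (k + 1) := K.opcyclesToCycles k (k + 1)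
  let h := K.homologyι k ≫ s.γ
  let n : cokernel h ⟶ pushout s.γ o := cokernel.desc h (pushout.inl s.γ o) (by
    simp [h, o, pushout.condition, homologyι_opcyclesToCycles_assoc])
  let S := ShortComplex.mk n
    (pushout.desc 0 (K.homologyπ (k + 1)) (by
      simp [o, opcyclesToCycles_homologyπ]) : pushout s.γ o ⟶ K.homology (k + 1))
    (by
      apply coequalizer.hom_ext
      change cokernel.π h ≫ _ = cokernel.π h ≫ _
      simp only [n, cokernel.π_desc_assoc, comp_zero]
      exact pushout.inl_desc _ _ _)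
  have hSg : pushout.inr s.γ o ≫ S.g = K.homologyπ (k + 1) := pushout.inr_desc _ _ _
  have hSl : pushout.inl s.γ o ≫ S.g = 0 := pushout.inl_desc _ _ _
  have hjoint : Epi (biprod.desc (pushout.inl s.γ o) (pushout.inr s.γ o)) := by
    refine Preadditive.epi_of_cancel_zero _ fun g hg => ?_
    refine pushout.hom_ext ?_ ?_
    · simpa using congrArg (biprod.inl ≫ ·) hg
    · simpa using congrArg (biprod.inr ≫ ·) hg
  have hker : ∀ {W : A} (x : W ⟶ s.C), x ≫ pushout.inl s.γ o = 0 →
      ∃ (W' : A) (π : W' ⟶ W) (_ : Epi π) (u : W' ⟶ K.homology k), π ≫ x = u ≫ h := by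
    intro W x hx
    obtain ⟨W', π, hπ, w, hw₁, hw₂⟩ := CxRes.exists_of_pushout s.γ o x 0 (by simpa using hx)
    have hw : w ≫ K.fromOpcycles k (k + 1) = 0 := by
      have := congrArg (· ≫ K.iCycles (k + 1)) hw₂
      simpa [o] using this.symm
    obtain ⟨u, hu⟩ := KernelFork.IsLimit.lift' (K.homologyIsKernel k (k + 1) (by simp)) w hw
    exact ⟨W', π, hπ, u, by
      rw [hw₁]
      exact (congrArg (· ≫ s.γ) hu.symm).trans (Category.assoc _ _ _)⟩
  have hS : S.ShortExact :=
    { exact := by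
        rw [ShortComplex.exact_iff_exact_up_to_refinements]
        intro W x hx
        obtain ⟨W₁, π₁, _, v, hv⟩ := surjective_up_to_refinements_of_epi
          (biprod.desc (pushout.inl s.γ o) (pushout.inr s.γ o)) x
        have hb : (v ≫ biprod.snd) ≫ K.homologyπ (k + 1) = 0 := by
          have := congrArg (π₁ ≫ ·) hx
          simp only [comp_zero, reassoc_of% hv, biprod.desc_eq, Preadditive.add_comp,
            Preadditive.comp_add, Category.assoc, hSl, hSg, zero_add] at this
          simpa using this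
        obtain ⟨W₂, π₂, _, (z : W₂ ⟶ K.X k), (hz : π₂ ≫ v ≫ biprod.snd = z ≫ K.toCycles k (k + 1))⟩ :=
          (ShortComplex.exact_of_g_is_cokernel
            (ShortComplex.mk (K.toCycles k (k + 1)) (K.homologyπ (k + 1)) (K.toCycles_comp_homologyπ _ _))
            (K.homologyIsCokernel k (k + 1) (by simp))).exact_up_to_refinements _ hb
        refine ⟨W₂, π₂ ≫ π₁, inferInstance,
          (π₂ ≫ v ≫ biprod.fst + z ≫ K.pOpcycles k ≫ s.γ) ≫ cokernel.π h, ?_⟩
        change _ = _ ≫ n
        simp only [Category.assoc, n, cokernel.π_desc, hv, biprod.desc_eq, Preadditive.comp_add,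
          Preadditive.add_comp, pushout.condition]
        rw [reassoc_of% hz]
        simp [o]
      mono_f := by
        change Mono n
        refine Preadditive.mono_of_cancel_zero _ fun {W} x hx => ?_
        obtain ⟨W₁, π₁, _, y, hy⟩ := surjective_up_to_refinements_of_epi (cokernel.π h) x
        obtain ⟨W₂, π₂, _, u, hu⟩ := hker y (by
          have := congrArg (π₁ ≫ ·) hx
          simpa [reassoc_of% hy, n] using this)
        rw [← cancel_epi π₁, ← cancel_epi π₂, comp_zero, comp_zero, hy, reassoc_of% hu,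
          cokernel.condition, comp_zero]
      epi_g := by
        haveI : Epi (pushout.inr s.γ o ≫ S.g) := by rw [hSg]; infer_instance
        exact epi_of_epi (pushout.inr s.γ o) S.g }
  obtain ⟨J, ε, hJ, hJi, hε⟩ :=
    c.emb _ (c.ext S hS (c.coker h (hH k) s.hC) (hH (k + 1)))
  let Φ : pushout s.γ o ⟶ pushout s.γ (K.fromOpcycles k (k + 1)) :=
    pushout.map s.γ o s.γ (K.fromOpcycles k (k + 1)) (𝟙 _) (K.iCycles (k + 1)) (𝟙 _) (by simp)
      (by simp [o])
  haveI : Mono Φ := by
    refine Preadditive.mono_of_cancel_zero _ fun {W} x hx => ?_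
    obtain ⟨W₁, π₁, _, v, hv⟩ := surjective_up_to_refinements_of_epi
      (biprod.desc (pushout.inl s.γ o) (pushout.inr s.γ o)) x
    have h0 : (v ≫ biprod.fst) ≫ pushout.inl s.γ (K.fromOpcycles k (k + 1)) +
        (v ≫ biprod.snd ≫ K.iCycles (k + 1)) ≫ pushout.inr s.γ (K.fromOpcycles k (k + 1)) = 0 := by
      have := congrArg (π₁ ≫ ·) hx
      simp only [comp_zero, reassoc_of% hv, biprod.desc_eq, Preadditive.add_comp,
        Preadditive.comp_add, Category.assoc, Φ, pushout.inl_desc, pushout.inr_desc] at this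
      simpa using this
    obtain ⟨W₂, π₂, _, w, hw₁, hw₂⟩ := CxRes.exists_of_pushout s.γ (K.fromOpcycles k (k + 1))
      (v ≫ biprod.fst) (-(v ≫ biprod.snd ≫ K.iCycles (k + 1))) (by
        rw [Preadditive.neg_comp, eq_neg_iff_add_eq_zero]
        exact h0)
    have hw₂' : π₂ ≫ v ≫ biprod.snd = -(w ≫ o) := by
      rw [← cancel_mono (K.iCycles (k + 1))]
      simp only [Category.assoc, Preadditive.neg_comp, o, opcyclesToCycles_iCycles, ← hw₂,
        Preadditive.comp_neg, neg_neg]
    rw [← cancel_epi π₁, ← cancel_epi π₂, comp_zero, comp_zero, hv, biprod.desc_eq]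
    simp only [Preadditive.comp_add]
    rw [← Category.assoc v biprod.fst, ← Category.assoc v biprod.snd, ← Category.assoc π₂,
      ← Category.assoc π₂ (v ≫ biprod.snd), hw₁, hw₂', Preadditive.neg_comp, Category.assoc,
      Category.assoc, pushout.condition, add_neg_cancel]
  let j : pushout s.γ (K.fromOpcycles k (k + 1)) ⟶ J := Injective.factorThru ε Φ
  have hΦl : pushout.inl s.γ o ≫ Φ = pushout.inl s.γ (K.fromOpcycles k (k + 1)) :=
    (pushout.inl_desc _ _ _).trans (Category.id_comp _)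
  have hΦr : pushout.inr s.γ o ≫ Φ =
      K.iCycles (k + 1) ≫ pushout.inr s.γ (K.fromOpcycles k (k + 1)) := pushout.inr_desc _ _ _
  have hj : Φ ≫ j = ε := Injective.comp_factorThru _ _
  let δ : s.C ⟶ J := pushout.inl s.γ (K.fromOpcycles k (k + 1)) ≫ j
  have hδ : δ = pushout.inl s.γ o ≫ ε := by rw [← hj, reassoc_of% hΦl]
  let f' : K.X (k + 1) ⟶ J := pushout.inr s.γ (K.fromOpcycles k (k + 1)) ≫ j
  have hcomm : s.γ ≫ δ = K.fromOpcycles k (k + 1) ≫ f' := by
    simp only [δ, f', pushout.condition_assoc]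
  let γ' : K.opcycles (k + 1) ⟶ cokernel δ := K.descOpcycles (f' ≫ cokernel.π δ) k (by simp) (by
    rw [← K.p_fromOpcycles k (k + 1), Category.assoc, ← reassoc_of% hcomm, cokernel.condition,
      comp_zero, comp_zero])
  have hγ' : Mono (K.homologyι (k + 1) ≫ γ') := by
    refine Preadditive.mono_of_cancel_zero _ fun {W} x hx => ?_
    obtain ⟨W₁, π₁, _, y, hy⟩ := surjective_up_to_refinements_of_epi (K.homologyπ (k + 1)) x
    have h1 : (y ≫ pushout.inr s.γ o ≫ ε) ≫ cokernel.π δ = 0 := by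
      have := congrArg (π₁ ≫ ·) hx
      simp only [comp_zero, reassoc_of% hy, homology_π_ι_assoc, γ', p_descOpcycles, f',
        Category.assoc] at this
      rw [← hj]
      simpa only [Category.assoc, reassoc_of% hΦr] using this
    obtain ⟨W₂, π₂, _, (z : W₂ ⟶ s.C), (hz : π₂ ≫ y ≫ pushout.inr s.γ o ≫ ε = z ≫ δ)⟩ :=
      (ShortComplex.exact_cokernel δ).exact_up_to_refinements _ h1
    have h2 : π₂ ≫ y ≫ pushout.inr s.γ o = z ≫ pushout.inl s.γ o := by
      rw [← cancel_mono ε]; simpa [hδ] using hz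
    have h3 := congrArg (· ≫ S.g) h2
    simp only [Category.assoc, hSg, hSl, comp_zero] at h3
    rw [← cancel_epi π₁, ← cancel_epi π₂, comp_zero, comp_zero, hy, h3]
  refine ⟨⟨J, hJ, hJi, f', cokernel δ, c.coker δ s.hC hJ, cokernel.π δ, inferInstance, γ', hγ',
    by simp [γ']⟩, δ, cokernel.condition δ,
    fun x hx => (ShortComplex.exact_cokernel δ).exact_up_to_refinements x hx, hcomm, fun x hx => ?_⟩
  refine hker x ?_
  rw [← cancel_mono ε, zero_comp, Category.assoc, ← hδ]
  exact hx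

/-- all stages -/
noncomputable def stage : ∀ k, St P K k
  | 0 => (nonempty_init c K hH).some.1
  | k + 1 => (exists_step c K hH (stage k)).choose

/-- the differential -/
noncomputable def dd (k : ℕ) : (stage c K hH k).C ⟶ (stage c K hH (k + 1)).X :=
  (exists_step c K hH (stage c K hH k)).choose_spec.choose

theorem dd_p (k : ℕ) : dd c K hH k ≫ (stage c K hH (k + 1)).p = 0 :=
  (exists_step c K hH (stage c K hH k)).choose_spec.choose_spec.choose

theorem dd_exact (k : ℕ) {W : A} (x : W ⟶ (stage c K hH (k + 1)).X)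
    (h : x ≫ (stage c K hH (k + 1)).p = 0) :
    ∃ (W' : A) (π : W' ⟶ W) (_ : Epi π) (z : W' ⟶ (stage c K hH k).C), π ≫ x = z ≫ dd c K hH k :=
  (exists_step c K hH (stage c K hH k)).choose_spec.choose_spec.choose_spec.1 x h

theorem γ_dd (k : ℕ) :
    (stage c K hH k).γ ≫ dd c K hH k = K.fromOpcycles k (k + 1) ≫ (stage c K hH (k + 1)).f :=
  (exists_step c K hH (stage c K hH k)).choose_spec.choose_spec.choose_spec.2.1

theorem dd_ker (k : ℕ) {W : A} (x : W ⟶ (stage c K hH k).C) (h : x ≫ dd c K hH k = 0) :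
    ∃ (W' : A) (π : W' ⟶ W) (_ : Epi π) (u : W' ⟶ K.homology k),
      π ≫ x = u ≫ K.homologyι k ≫ (stage c K hH k).γ :=
  (exists_step c K hH (stage c K hH k)).choose_spec.choose_spec.choose_spec.2.2 x h

/-- the complex -/
noncomputable def resCx : CochainComplex A ℕ :=
  CochainComplex.of (fun k => (stage c K hH k).X)
    (fun k => (stage c K hH k).p ≫ dd c K hH k) fun k => by
      rw [Category.assoc, reassoc_of% (dd_p c K hH k), zero_comp, comp_zero]

theorem resCx_d (k : ℕ) : (resCx c K hH).d k (k + 1) = (stage c K hH k).p ≫ dd c K hH k :=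
  CochainComplex.of_d (fun k => (stage c K hH k).X)
    (fun k => (stage c K hH k).p ≫ dd c K hH k) k

/-- the map to the resolution -/
noncomputable def resMap : K ⟶ resCx c K hH :=
  CochainComplex.ofHom (fun k => (stage c K hH k).f) fun k => by
    rw [resCx_d]
    show (stage c K hH k).f ≫ (stage c K hH k).p ≫ dd c K hH k =
      K.d k (k + 1) ≫ (stage c K hH (k + 1)).f
    rw [← reassoc_of% (stage c K hH k).w, γ_dd, p_fromOpcycles_assoc]

theorem comp_d_p (j k : ℕ) : (resCx c K hH).d j k ≫ (stage c K hH k).p = 0 := by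
  by_cases h : j + 1 = k
  · subst h
    rw [resCx_d]
    show ((stage c K hH j).p ≫ dd c K hH j) ≫ (stage c K hH (j + 1)).p = 0
    rw [Category.assoc, dd_p, comp_zero]
  · rw [(resCx c K hH).shape _ _ h, zero_comp]

theorem exists_boundary (k : ℕ) {W : A} (x : W ⟶ (resCx c K hH).X k)
    (h : x ≫ (stage c K hH k).p = 0) :
    ∃ (W' : A) (π : W' ⟶ W) (_ : Epi π) (y : W' ⟶ (resCx c K hH).X ((ComplexShape.up ℕ).prev k)),
      π ≫ x = y ≫ (resCx c K hH).d ((ComplexShape.up ℕ).prev k) k := by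
  cases k with
  | zero =>
    haveI : IsIso (stage c K hH 0).p := (nonempty_init c K hH).some.2
    have h' : x = 0 := (cancel_mono (stage c K hH 0).p).1 (h.trans zero_comp.symm)
    exact ⟨W, 𝟙 W, inferInstance, 0, by rw [h', comp_zero, zero_comp]⟩
  | succ j =>
    rw [show (ComplexShape.up ℕ).prev (j + 1) = j by simp]
    obtain ⟨W₁, π₁, h₁, z, hz⟩ := dd_exact c K hH j x h
    haveI := (stage c K hH j).hp
    obtain ⟨W₂, π₂, h₂, y, hy⟩ := surjective_up_to_refinements_of_epi (stage c K hH j).p z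
    refine ⟨W₂, π₂ ≫ π₁, inferInstance, y, ?_⟩
    rw [resCx_d]
    exact (Category.assoc _ _ _).trans ((congrArg (π₂ ≫ ·) hz).trans ((reassoc_of% hy) (dd c K hH j)))

theorem quasiIso_resMap : QuasiIso (resMap c K hH) := by
  refine ⟨fun k => ?_⟩
  rw [quasiIsoAt_iff_isIso_homologyMap]
  have hk : (ComplexShape.up ℕ).next k = k + 1 := by simp
  haveI := (stage c K hH k).hγ
  refine @isIso_of_mono_of_epi _ _ _ _ _ _
    ((mono_homologyMap_iff_up_to_refinements (resMap c K hH) _ k _ rfl hk).2 fun W x hx y hy => ?_)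
    ((epi_homologyMap_iff_up_to_refinements (resMap c K hH) _ k _ rfl hk).2 fun W z hz => ?_)
  · change x ≫ (stage c K hH k).f = y ≫ (resCx c K hH).d _ k at hy
    have h1 : (K.liftCycles x _ hk hx ≫ K.homologyπ k) ≫ K.homologyι k ≫ (stage c K hH k).γ = 0 := by
      rw [Category.assoc, K.homology_π_ι_assoc, K.liftCycles_i_assoc, (stage c K hH k).w,
        ← Category.assoc, hy]
      exact (Category.assoc _ _ _).trans ((congrArg (y ≫ ·) (comp_d_p c K hH _ k)).trans comp_zero)
    have h2 : K.liftCycles x _ hk hx ≫ K.homologyπ k = 0 := by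
      rw [← cancel_mono (K.homologyι k ≫ (stage c K hH k).γ), h1, zero_comp]
    have h3 : x ≫ K.pOpcycles k = 0 := by
      rw [← K.liftCycles_i x _ hk hx, Category.assoc, ← K.homology_π_ι, reassoc_of% h2, zero_comp]
    exact (K.comp_pOpcycles_eq_zero_iff_up_to_refinements x _ rfl).1 h3
  · change W ⟶ (stage c K hH k).X at z
    obtain ⟨W₁, π₁, h₁, u, hu⟩ := dd_ker c K hH k (z ≫ (stage c K hH k).p) (by
      rw [resCx_d] at hz; rw [Category.assoc]; exact hz)
    obtain ⟨W₂, π₂, h₂, v, hv⟩ := surjective_up_to_refinements_of_epi (K.homologyπ k) u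
    have hcyc : (v ≫ K.iCycles k) ≫ K.d k (k + 1) = 0 := by simp
    obtain ⟨W₃, π₃, h₃, y, hy⟩ := exists_boundary c K hH k
      ((π₂ ≫ π₁ ≫ z : W₂ ⟶ (resCx c K hH).X k) - (v ≫ K.iCycles k) ≫ (resMap c K hH).f k) (by
        show ((π₂ ≫ π₁ ≫ z : W₂ ⟶ (stage c K hH k).X) -
          (v ≫ K.iCycles k) ≫ (stage c K hH k).f) ≫ (stage c K hH k).p = 0
        simp only [Preadditive.sub_comp, Category.assoc]
        rw [hu, ← (stage c K hH k).w, reassoc_of% hv, K.homology_π_ι_assoc, sub_self])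
    refine ⟨W₃, π₃ ≫ π₂ ≫ π₁, inferInstance, π₃ ≫ v ≫ K.iCycles k,
      by rw [Category.assoc, hcyc, comp_zero], y, ?_⟩
    rw [← hy]
    simp [Preadditive.comp_sub]

end nat

include c in
theorem exists_resolution (K : CochainComplex A ℤ) (a : ℤ) [K.IsStrictlyGE a]
    (hH : ∀ n, P (K.homology n)) :
    ∃ (L : CochainComplex A ℤ) (α : K ⟶ L), L.IsStrictlyGE a ∧
      (∀ n, P (L.X n) ∧ Injective (L.X n)) ∧ QuasiIso α := by
  classical
  let e := ComplexShape.embeddingUpIntGE a
  haveI : K.IsStrictlySupported e := inferInstanceAs (K.IsStrictlyGE a)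
  let K' := HomologicalComplex.truncGE' K e
  let eK : K ≅ K'.extend e := @asIso _ _ _ _ (HomologicalComplex.πTruncGE K e)
    ((HomologicalComplex.isIso_πTruncGE_iff K e).2 inferInstance)
  have hH' : ∀ k, P (K'.homology k) := fun k =>
    c.iso (((HomologicalComplex.homologyFunctor A _ (e.f k)).mapIso eK) ≪≫
      K'.extendHomologyIso e rfl) (hH _)
  haveI := quasiIso_resMap c K' hH'
  refine ⟨(resCx c K' hH').extend e, eK.hom ≫ extendMap (resMap c K' hH') e, ?_,
    fun n => ?_, inferInstance⟩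
  · exact (CochainComplex.isStrictlyGE_iff _ a).2 fun n hn =>
      (resCx c K' hH').isZero_extend_X e n fun k hk => by simp [e] at hk; omega
  · by_cases h : ∃ k, e.f k = n
    · obtain ⟨k, hk⟩ := h
      exact ⟨c.iso ((resCx c K' hH').extendXIso e hk).symm (stage c K' hH' k).hX,
        Injective.of_iso ((resCx c K' hH').extendXIso e hk).symm (stage c K' hH' k).hXi⟩
    · have hz := (resCx c K' hH').isZero_extend_X e n fun k hk => h ⟨k, hk⟩
      refine ⟨c.iso ?_ (c.coker (𝟙 (K.homology a)) (hH a) (hH a)), hz.injective⟩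
      exact (isZero_cokernel_of_epi _).iso hz

end Groth.Agent.ClassRes
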