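import Groth.Agent.CxRes.Basic

/-!
Left resolutions of bounded above complexes, by duality.
-/

universe v u

open CategoryTheory CategoryTheory.Limits HomologicalComplex Opposite

namespace Groth.Agent.CxRes

variable {A : Type u} [Category.{v} A] [Abelian A]

/-- opposite complex, reindexed -/
def opCx (K : CochainComplex A ℤ) : CochainComplex Aᵒᵖ ℤ where
  X i := op (K.X (-i))
  d i j := (K.d (-j) (-i)).op
  shape i j h := by
    rw [K.shape _ _ (by simp at h ⊢; omega)]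
    rfl
  d_comp_d' i j k _ _ := by rw [← op_comp, K.d_comp_d]; rfl

/-- unopposite complex, reindexed -/
def unopCx (L : CochainComplex Aᵒᵖ ℤ) : CochainComplex A ℤ where
  X i := (L.X (-i)).unop
  d i j := (L.d (-j) (-i)).unop
  shape i j h := by
    rw [L.shape _ _ (by simp at h ⊢; omega)]
    rfl
  d_comp_d' i j k _ _ := by rw [← unop_comp, L.d_comp_d]; rfl

/-- transport of a component -/
theorem mono_op_f {K : CochainComplex A ℤ} {L : CochainComplex Aᵒᵖ ℤ} (α : opCx K ⟶ L) (n m : ℤ) (h : n = -m)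
    (hm : Mono (α.f n)) : Epi ((α.f (-m)).unop) := by
  subst h
  infer_instance

/-- a map into an opposite complex gives a map out of the unopposite -/
def unopMap {K : CochainComplex A ℤ} {L : CochainComplex Aᵒᵖ ℤ} (α : opCx K ⟶ L) : unopCx L ⟶ K where
  f i := (α.f (-i)).unop ≫ eqToHom (congrArg K.X (neg_neg i))
  comm' i j _ := by
    simp only [unopCx, Category.assoc]
    have := congrArg Quiver.Hom.unop (α.comm (-j) (-i))
    simp only [opCx, unop_comp, Quiver.Hom.unop_op] at this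
    have e : ∀ (a b a' b' : ℤ) (ha : a = a') (hb : b = b'),
        eqToHom (congrArg K.X ha) ≫ K.d a' b' = K.d a b ≫ eqToHom (congrArg K.X hb) := by
      rintro a b _ _ rfl rfl; simp
    refine (congrArg ((α.f (-i)).unop ≫ ·) (e (- -i) (- -j) i j (neg_neg i) (neg_neg j))).trans ?_
    exact (Category.assoc _ _ _).symm.trans ((congrArg (· ≫ eqToHom _) this.symm).trans (Category.assoc _ _ _))

theorem quasiIso_unopMap {K : CochainComplex A ℤ} {L : CochainComplex Aᵒᵖ ℤ} (α : opCx K ⟶ L) [QuasiIso α] :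
    QuasiIso (unopMap α) := by
  refine ⟨fun i => ?_⟩
  rw [quasiIsoAt_iff' (unopMap α) (i - 1) i (i + 1) (by simp) (by simp)]
  have h := (quasiIsoAt_iff' α (-(i + 1)) (-i) (-(i - 1)) (by simp; omega) (by simp; omega)).1 inferInstance
  let φ := (shortComplexFunctor' Aᵒᵖ (ComplexShape.up ℤ) (-(i + 1)) (-i) (-(i - 1))).map α
  let ψ := (shortComplexFunctor' A (ComplexShape.up ℤ) (i - 1) i (i + 1)).map (unopMap α)
  haveI : ShortComplex.QuasiIso φ := h
  haveI hu : ShortComplex.QuasiIso (ShortComplex.unopMap φ) := ShortComplex.quasiIso_unopMap φ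
  let e : ((opCx K).sc' (-(i + 1)) (-i) (-(i - 1))).unop ≅ K.sc' (i - 1) i (i + 1) :=
    ShortComplex.isoMk (eqToIso (congrArg K.X (neg_neg (i - 1)))) (eqToIso (congrArg K.X (neg_neg i)))
      (eqToIso (congrArg K.X (neg_neg (i + 1))))
      (by
        have e : ∀ (a b a' b' : ℤ) (ha : a = a') (hb : b = b'),
            eqToHom (congrArg K.X ha) ≫ K.d a' b' = K.d a b ≫ eqToHom (congrArg K.X hb) := by
          rintro a b _ _ rfl rfl; simp
        exact e _ _ _ _ (neg_neg (i - 1)) (neg_neg i))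
      (by
        have e : ∀ (a b a' b' : ℤ) (ha : a = a') (hb : b = b'),
            eqToHom (congrArg K.X ha) ≫ K.d a' b' = K.d a b ≫ eqToHom (congrArg K.X hb) := by
          rintro a b _ _ rfl rfl; simp
        exact e _ _ _ _ (neg_neg i) (neg_neg (i + 1)))
  change ShortComplex.QuasiIso ψ
  have : ψ = ShortComplex.unopMap φ ≫ e.hom := by
    ext <;> rfl
  rw [this]
  exact ShortComplex.quasiIso_comp (ShortComplex.unopMap φ) e.hom

theorem exists_left_resolution (P : A → Prop) (hP0 : ∃ Z : A, IsZero Z ∧ P Z)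
    (hP : ∀ X : A, ∃ (Y : A) (π : Y ⟶ X), P Y ∧ Epi π) (K : CochainComplex A ℤ) (a : ℤ) [K.IsStrictlyLE a] :
    ∃ (Q : CochainComplex A ℤ) (α : Q ⟶ K), Q.IsStrictlyLE a ∧ (∀ n, P (Q.X n)) ∧ (∀ n, Epi (α.f n)) ∧ QuasiIso α := by
  obtain ⟨Z, hZ, hPZ⟩ := hP0
  haveI : (opCx K).IsStrictlyGE (-a) := (CochainComplex.isStrictlyGE_iff _ _).2 fun n hn =>
    (K.isZero_of_isStrictlyLE a (-n) (by omega)).op
  obtain ⟨L, α, hL, hP', hm, hq⟩ := exists_resolution (fun X : Aᵒᵖ => P X.unop) ⟨op Z, hZ.op, hPZ⟩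
    (fun X => by
      obtain ⟨Y, π, hY, hπ⟩ := hP X.unop
      exact ⟨op Y, π.op, hY, inferInstance⟩) (opCx K) (-a)
  haveI := hq
  refine ⟨unopCx L, unopMap α, (CochainComplex.isStrictlyLE_iff _ _).2 fun n hn =>
    (L.isZero_of_isStrictlyGE (-a) (-n) (by omega)).unop, fun n => hP' (-n), fun n => ?_, quasiIso_unopMap α⟩
  haveI := mono_op_f α (-n) n rfl (hm (-n))
  show Epi ((α.f (-n)).unop ≫ eqToHom _)
  exact epi_comp _ _

theorem exists_left_resolution' (P : A → Prop) (hP0 : ∃ Z : A, IsZero Z ∧ P Z)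
    (hP : ∀ X : A, ∃ (Y : A) (π : Y ⟶ X), P Y ∧ Epi π) (K : CochainComplex A ℤ) (a : ℤ)
    (hK : ∀ n : ℤ, a < n → IsZero (K.homology n)) :
    ∃ (Q : CochainComplex A ℤ) (α : Q ⟶ K), Q.IsStrictlyLE a ∧ (∀ n, P (Q.X n)) ∧ QuasiIso α := by
  haveI : K.IsLE a := (CochainComplex.isLE_iff K a).2 fun n hn => (exactAt_iff_isZero_homology K n).2 (hK n hn)
  obtain ⟨Q, α, h₁, h₂, -, h₄⟩ := exists_left_resolution P hP0 hP (K.truncLE a) a
  exact ⟨Q, α ≫ CochainComplex.ιTruncLE K a, h₁, h₂, quasiIso_comp _ _⟩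

end Groth.Agent.CxRes
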