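import Groth.Agent.CxRes.Dual
import Groth.Agent.S6611
import Groth.Agent.WayOut.Basic

/-!
Resolutions of short exact sequences of bounded complexes.
-/

universe v u

open CategoryTheory CategoryTheory.Limits HomologicalComplex Opposite

namespace Groth.Agent.CxRes

variable {A : Type u} [Category.{v} A] [Abelian A]

theorem quasiIso_τ₂ {S T : ShortComplex (CochainComplex A ℤ)} (φ : S ⟶ T) (hS : S.ShortExact) (hT : T.ShortExact)
    [QuasiIso φ.τ₁] [QuasiIso φ.τ₃] : QuasiIso φ.τ₂ := by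
  refine ⟨fun i => ?_⟩
  rw [quasiIsoAt_iff_isIso_homologyMap]
  have hij : (ComplexShape.up ℤ).Rel (i - 1) i := by simp
  have hjk : (ComplexShape.up ℤ).Rel i (i + 1) := by simp
  have c₁ := HomologySequence.δ_naturality φ hS hT (i - 1) i hij
  have c₃ := HomologySequence.δ_naturality φ hS hT i (i + 1) hjk
  have hf : homologyMap S.f i ≫ homologyMap φ.τ₂ i = homologyMap φ.τ₁ i ≫ homologyMap T.f i := by
    rw [← homologyMap_comp, ← homologyMap_comp, φ.comm₁₂]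
  have hg : homologyMap S.g i ≫ homologyMap φ.τ₃ i = homologyMap φ.τ₂ i ≫ homologyMap T.g i := by
    rw [← homologyMap_comp, ← homologyMap_comp, φ.comm₂₃]
  haveI : Mono (homologyMap φ.τ₂ i) := WayOut.four_mono (α := homologyMap φ.τ₃ (i - 1)) (β := homologyMap φ.τ₁ i)
    (δ := homologyMap φ.τ₃ i) (hS.δ_comp (i - 1) i hij)
    (by rw [← homologyMap_comp, S.zero, homologyMap_zero]) (hS.homology_exact₂ i) (hT.δ_comp (i - 1) i hij)
    (hT.homology_exact₁ (i - 1) i hij) c₁ hf hg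
  haveI : Epi (homologyMap φ.τ₂ i) := WayOut.four_epi (β := homologyMap φ.τ₁ i) (δ := homologyMap φ.τ₃ i)
    (ε := homologyMap φ.τ₁ (i + 1)) (hS.comp_δ i (i + 1) hjk) (hS.homology_exact₃ i (i + 1) hjk)
    (by rw [← homologyMap_comp, T.zero, homologyMap_zero]) (hT.homology_exact₂ i) (hT.comp_δ i (i + 1) hjk) hf hg c₃
  exact isIso_of_mono_of_epi _

/-- the extension of `J` by `I` twisted by `θ` -/
noncomputable def ext (I J : CochainComplex A ℤ) (θ : ∀ i, J.X i ⟶ I.X (i + 1))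
    (h : ∀ i, θ i ≫ I.d (i + 1) (i + 1 + 1) + J.d i (i + 1) ≫ θ (i + 1) = 0) : CochainComplex A ℤ :=
  CochainComplex.of (fun i => I.X i ⊞ J.X i)
    (fun i => biprod.lift (biprod.fst ≫ I.d i (i + 1) + biprod.snd ≫ θ i) (biprod.snd ≫ J.d i (i + 1))) fun i => by
    ext <;> simp [h]

theorem ext_d (I J : CochainComplex A ℤ) (θ : ∀ i, J.X i ⟶ I.X (i + 1))
    (h : ∀ i, θ i ≫ I.d (i + 1) (i + 1 + 1) + J.d i (i + 1) ≫ θ (i + 1) = 0) (i : ℤ) :
    (ext I J θ h).d i (i + 1) =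
      biprod.lift (biprod.fst ≫ I.d i (i + 1) + biprod.snd ≫ θ i) (biprod.snd ≫ J.d i (i + 1)) :=
  CochainComplex.of_d (fun i => I.X i ⊞ J.X i)
    (fun i => biprod.lift (biprod.fst ≫ I.d i (i + 1) + biprod.snd ≫ θ i) (biprod.snd ≫ J.d i (i + 1))) i

/-- inclusion -/
noncomputable def extInl (I J : CochainComplex A ℤ) (θ : ∀ i, J.X i ⟶ I.X (i + 1))
    (h : ∀ i, θ i ≫ I.d (i + 1) (i + 1 + 1) + J.d i (i + 1) ≫ θ (i + 1) = 0) : I ⟶ ext I J θ h :=
  CochainComplex.ofHom (fun i => (biprod.inl : I.X i ⟶ I.X i ⊞ J.X i)) fun i => by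
    rw [ext_d]
    show (biprod.inl : I.X i ⟶ I.X i ⊞ J.X i) ≫
      biprod.lift (biprod.fst ≫ I.d i (i + 1) + biprod.snd ≫ θ i) (biprod.snd ≫ J.d i (i + 1)) =
        I.d i (i + 1) ≫ (biprod.inl : I.X (i + 1) ⟶ I.X (i + 1) ⊞ J.X (i + 1))
    apply biprod.hom_ext <;> simp

/-- projection -/
noncomputable def extSnd (I J : CochainComplex A ℤ) (θ : ∀ i, J.X i ⟶ I.X (i + 1))
    (h : ∀ i, θ i ≫ I.d (i + 1) (i + 1 + 1) + J.d i (i + 1) ≫ θ (i + 1) = 0) : ext I J θ h ⟶ J :=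
  CochainComplex.ofHom (fun i => (biprod.snd : I.X i ⊞ J.X i ⟶ J.X i)) fun i => by
    rw [ext_d]
    show (biprod.snd : I.X i ⊞ J.X i ⟶ J.X i) ≫ J.d i (i + 1) =
      biprod.lift (biprod.fst ≫ I.d i (i + 1) + biprod.snd ≫ θ i) (biprod.snd ≫ J.d i (i + 1)) ≫ biprod.snd
    simp

/-- map into the extension -/
noncomputable def extLift (I J : CochainComplex A ℤ) (θ : ∀ i, J.X i ⟶ I.X (i + 1))
    (h : ∀ i, θ i ≫ I.d (i + 1) (i + 1 + 1) + J.d i (i + 1) ≫ θ (i + 1) = 0) {K : CochainComplex A ℤ}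
    (r : ∀ i, K.X i ⟶ I.X i) (g : K ⟶ J)
    (hr : ∀ i, r i ≫ I.d i (i + 1) + g.f i ≫ θ i = K.d i (i + 1) ≫ r (i + 1)) : K ⟶ ext I J θ h :=
  CochainComplex.ofHom (fun i => (biprod.lift (r i) (g.f i) : K.X i ⟶ I.X i ⊞ J.X i)) fun i => by
    rw [ext_d]
    show biprod.lift (r i) (g.f i) ≫
      biprod.lift (biprod.fst ≫ I.d i (i + 1) + biprod.snd ≫ θ i) (biprod.snd ≫ J.d i (i + 1)) =
        K.d i (i + 1) ≫ biprod.lift (r (i + 1)) (g.f (i + 1))
    apply biprod.hom_ext <;> simp [hr]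

theorem shortExact_injective [EnoughInjectives A] (S : ShortComplex (CochainComplex A ℤ)) (hS : S.ShortExact) (n : ℤ)
    [S.X₁.IsStrictlyGE n] [S.X₃.IsStrictlyGE n] :
    ∃ (T : ShortComplex (CochainComplex A ℤ)) (φ : S ⟶ T), T.ShortExact ∧
      T.X₁.IsStrictlyGE n ∧ T.X₂.IsStrictlyGE n ∧ T.X₃.IsStrictlyGE n ∧
      (∀ k : ℤ, Injective (T.X₁.X k) ∧ Injective (T.X₂.X k) ∧ Injective (T.X₃.X k)) ∧
      QuasiIso φ.τ₁ ∧ QuasiIso φ.τ₂ ∧ QuasiIso φ.τ₃ := by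
  obtain ⟨Z, hZ⟩ : ∃ Z : A, IsZero Z := ⟨_, (Limits.isZero_zero A)⟩
  have hI0 : ∃ Z : A, IsZero Z ∧ Injective Z := ⟨Z, hZ, hZ.injective⟩
  have hI : ∀ X : A, ∃ (Y : A) (ι : X ⟶ Y), Injective Y ∧ Mono ι := fun X =>
    ⟨Injective.under X, Injective.ι X, inferInstance, inferInstance⟩
  obtain ⟨I, α, hIge, hIinj, hαm, hαq⟩ := exists_resolution Injective hI0 hI S.X₁ n
  obtain ⟨J, γ, hJge, hJinj, hγm, hγq⟩ := exists_resolution Injective hI0 hI S.X₃ n
  haveI := hIinj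
  haveI := hαq
  haveI := hγq
  have hse : ∀ k : ℤ, (S.map (eval A (ComplexShape.up ℤ) k)).ShortExact := fun k => hS.map_of_exact _
  haveI hm : ∀ k, Mono (S.f.f k) := fun k => (hse k).mono_f
  haveI he : ∀ k, Epi (S.g.f k) := fun k => (hse k).epi_g
  let r : ∀ k, S.X₂.X k ⟶ I.X k := fun k => Injective.factorThru (α.f k) (S.f.f k)
  have hr : ∀ k, S.f.f k ≫ r k = α.f k := fun k => Injective.comp_factorThru _ _
  have hdesc : ∀ k, ∃ θ : S.X₃.X k ⟶ I.X (k + 1),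
      S.g.f k ≫ θ = S.X₂.d k (k + 1) ≫ r (k + 1) - r k ≫ I.d k (k + 1) := fun k => by
    haveI : Epi (S.map (eval A (ComplexShape.up ℤ) k)).g := he k
    have h0 : (S.map (eval A (ComplexShape.up ℤ) k)).f ≫ (S.X₂.d k (k + 1) ≫ r (k + 1) - r k ≫ I.d k (k + 1)) = 0 := by
      show S.f.f k ≫ _ = 0
      rw [Preadditive.comp_sub, ← Category.assoc, ← Category.assoc, S.f.comm, Category.assoc, hr, hr, α.comm, sub_self]
    exact ⟨(hse k).exact.desc _ h0, (hse k).exact.g_desc _ h0⟩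
  choose θ hθ using hdesc
  let θc : S.X₃ ⟶ I⟦(1 : ℤ)⟧ :=
    { f := fun k => θ k
      comm' := fun i j hij => by
        obtain rfl : i + 1 = j := hij
        rw [CochainComplex.shiftFunctor_obj_d']
        simp only [Int.negOnePow_one, Units.neg_smul, one_smul]
        show θ i ≫ (-I.d (i + 1) (i + 1 + 1)) = S.X₃.d i (i + 1) ≫ θ (i + 1)
        rw [← cancel_epi (S.g.f i), Preadditive.comp_neg, Preadditive.comp_neg, ← Category.assoc, hθ,
          ← Category.assoc, S.g.comm, Category.assoc, hθ]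
        simp [Preadditive.comp_sub, Preadditive.sub_comp] }
  haveI : (I⟦(1 : ℤ)⟧).IsStrictlyGE (n - 1) := (CochainComplex.isStrictlyGE_iff _ _).2 fun k hk =>
    I.isZero_of_isStrictlyGE n (k + 1) (by omega)
  obtain ⟨θ', hθ'⟩ := S6611.result S.X₃ J (I⟦(1 : ℤ)⟧) γ hγm (n - 1) (fun k => hIinj (k + 1)) θc
  let t : ∀ i, J.X i ⟶ I.X (i + 1) := fun i => θ'.f i
  have ht : ∀ i, t i ≫ I.d (i + 1) (i + 1 + 1) + J.d i (i + 1) ≫ t (i + 1) = 0 := fun i => by
    have h := θ'.comm i (i + 1)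
    rw [CochainComplex.shiftFunctor_obj_d'] at h
    simp only [Int.negOnePow_one, Units.neg_smul, one_smul, Preadditive.comp_neg] at h
    rw [add_eq_zero_iff_eq_neg]
    refine Eq.trans ?_ (congrArg Neg.neg h)
    exact ((congrArg Neg.neg (Preadditive.comp_neg _ _)).trans (neg_neg _)).symm
  let E := ext I J t ht
  let inl : I ⟶ E := extInl I J t ht
  let snd : E ⟶ J := extSnd I J t ht
  let τ : S.X₂ ⟶ E := extLift I J t ht r (S.g ≫ γ) fun i => by
    have hγθ : γ.f i ≫ t i = θ i := congr_hom hθ' i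
    rw [comp_f, Category.assoc, hγθ, hθ, add_sub_cancel]
  let T : ShortComplex (CochainComplex A ℤ) := ShortComplex.mk inl snd (by
    ext i
    exact biprod.inl_snd)
  have hT : T.ShortExact := shortExact_of_degreewise_shortExact _ fun i =>
    (ShortComplex.Splitting.ofHasBinaryBiproduct (I.X i) (J.X i)).shortExact
  let φ : S ⟶ T := ShortComplex.homMk α τ γ
    (by
      ext i
      show α.f i ≫ biprod.inl = S.f.f i ≫ biprod.lift (r i) (S.g.f i ≫ γ.f i)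
      apply biprod.hom_ext
      · simp [hr]
      · simp only [Category.assoc, biprod.inl_snd, comp_zero, biprod.lift_snd]
        rw [← Category.assoc, ← comp_f, S.zero, zero_f, zero_comp])
    (by
      ext i
      exact biprod.lift_snd _ _)
  haveI : QuasiIso φ.τ₁ := hαq
  haveI : QuasiIso φ.τ₃ := hγq
  refine ⟨T, φ, hT, hIge, (CochainComplex.isStrictlyGE_iff _ _).2 fun k hk => ?_, hJge, fun k => ⟨hIinj k, ?_, hJinj k⟩,
    hαq, quasiIso_τ₂ φ hS hT, hγq⟩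
  · show IsZero (I.X k ⊞ J.X k)
    exact (biprod_isZero_iff _ _).2 ⟨I.isZero_of_isStrictlyGE n k hk, J.isZero_of_isStrictlyGE n k hk⟩
  · haveI := hJinj k
    show Injective (I.X k ⊞ J.X k)
    infer_instance

end Groth.Agent.CxRes

namespace Groth.Agent.CxRes

variable {A : Type u} [Category.{v} A] [Abelian A]

/-- contravariant functoriality -/
def opHom {K L : CochainComplex A ℤ} (f : K ⟶ L) : opCx L ⟶ opCx K where
  f i := (f.f (-i)).op
  comm' i j _ := by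
    show (f.f (-i)).op ≫ (K.d (-j) (-i)).op = (L.d (-j) (-i)).op ≫ (f.f (-j)).op
    rw [← op_comp, ← op_comp, f.comm]

/-- contravariant functoriality -/
def unopHom {K L : CochainComplex Aᵒᵖ ℤ} (f : K ⟶ L) : unopCx L ⟶ unopCx K where
  f i := (f.f (-i)).unop
  comm' i j _ := by
    show (f.f (-i)).unop ≫ (K.d (-j) (-i)).unop = (L.d (-j) (-i)).unop ≫ (f.f (-j)).unop
    rw [← unop_comp, ← unop_comp, f.comm]

theorem shortExact_projective [EnoughProjectives A] (S : ShortComplex (CochainComplex A ℤ)) (hS : S.ShortExact) (n : ℤ)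
    [S.X₁.IsStrictlyLE n] [S.X₃.IsStrictlyLE n] :
    ∃ (T : ShortComplex (CochainComplex A ℤ)) (φ : T ⟶ S), T.ShortExact ∧
      T.X₁.IsStrictlyLE n ∧ T.X₂.IsStrictlyLE n ∧ T.X₃.IsStrictlyLE n ∧
      (∀ k : ℤ, Projective (T.X₁.X k) ∧ Projective (T.X₂.X k) ∧ Projective (T.X₃.X k)) ∧
      QuasiIso φ.τ₁ ∧ QuasiIso φ.τ₂ ∧ QuasiIso φ.τ₃ := by
  let S' : ShortComplex (CochainComplex Aᵒᵖ ℤ) := ShortComplex.mk (opHom S.g) (opHom S.f) (by
    ext i
    show (S.g.f (-i)).op ≫ (S.f.f (-i)).op = 0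
    rw [← op_comp, ← comp_f, S.zero]
    rfl)
  have hS' : S'.ShortExact := shortExact_of_degreewise_shortExact _ fun i =>
    (hS.map_of_exact (eval A (ComplexShape.up ℤ) (-i))).op
  haveI : S'.X₁.IsStrictlyGE (-n) := (CochainComplex.isStrictlyGE_iff _ _).2 fun k hk =>
    (S.X₃.isZero_of_isStrictlyLE n (-k) (by omega)).op
  haveI : S'.X₃.IsStrictlyGE (-n) := (CochainComplex.isStrictlyGE_iff _ _).2 fun k hk =>
    (S.X₁.isZero_of_isStrictlyLE n (-k) (by omega)).op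
  obtain ⟨T', φ', hT', h₁, h₂, h₃, hinj, q₁, q₂, q₃⟩ := shortExact_injective S' hS' (-n)
  let T : ShortComplex (CochainComplex A ℤ) := ShortComplex.mk (unopHom T'.g) (unopHom T'.f) (by
    ext i
    show (T'.g.f (-i)).unop ≫ (T'.f.f (-i)).unop = 0
    rw [← unop_comp, ← comp_f, T'.zero]
    rfl)
  have hT : T.ShortExact := shortExact_of_degreewise_shortExact _ fun i =>
    (hT'.map_of_exact (eval Aᵒᵖ (ComplexShape.up ℤ) (-i))).unop
  have hle : ∀ (L : CochainComplex Aᵒᵖ ℤ), L.IsStrictlyGE (-n) → (unopCx L).IsStrictlyLE n := fun L _ =>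
    (CochainComplex.isStrictlyLE_iff _ _).2 fun k hk => (L.isZero_of_isStrictlyGE (-n) (-k) (by omega)).unop
  have e : ∀ (K L : CochainComplex A ℤ) (f : K ⟶ L) (i : ℤ),
      (f.f (- -i)) ≫ eqToHom (congrArg L.X (neg_neg i)) = eqToHom (congrArg K.X (neg_neg i)) ≫ f.f i := by
    intro K L f i
    have : ∀ (a b : ℤ) (h : a = b), f.f a ≫ eqToHom (congrArg L.X h) = eqToHom (congrArg K.X h) ≫ f.f b := by
      rintro a _ rfl; simp
    exact this _ _ (neg_neg i)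
  haveI := q₁; haveI := q₂; haveI := q₃
  let φ : T ⟶ S := ShortComplex.homMk (unopMap φ'.τ₃) (unopMap φ'.τ₂) (unopMap φ'.τ₁)
    (by
      ext i
      show ((φ'.τ₃.f (-i)).unop ≫ eqToHom _) ≫ S.f.f i = (T'.g.f (-i)).unop ≫ (φ'.τ₂.f (-i)).unop ≫ eqToHom _
      have h : (φ'.τ₃.f (-i)).unop ≫ S.f.f (- -i) = (T'.g.f (-i)).unop ≫ (φ'.τ₂.f (-i)).unop :=
        (congrArg Quiver.Hom.unop (congr_hom φ'.comm₂₃ (-i))).symm
      refine (Category.assoc _ _ _).trans ((congrArg ((φ'.τ₃.f (-i)).unop ≫ ·) (e _ _ S.f i).symm).trans ?_)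
      exact (Category.assoc _ _ _).symm.trans ((congrArg (· ≫ eqToHom _) h).trans (Category.assoc _ _ _)))
    (by
      ext i
      show ((φ'.τ₂.f (-i)).unop ≫ eqToHom _) ≫ S.g.f i = (T'.f.f (-i)).unop ≫ (φ'.τ₁.f (-i)).unop ≫ eqToHom _
      have h : (φ'.τ₂.f (-i)).unop ≫ S.g.f (- -i) = (T'.f.f (-i)).unop ≫ (φ'.τ₁.f (-i)).unop :=
        (congrArg Quiver.Hom.unop (congr_hom φ'.comm₁₂ (-i))).symm
      refine (Category.assoc _ _ _).trans ((congrArg ((φ'.τ₂.f (-i)).unop ≫ ·) (e _ _ S.g i).symm).trans ?_)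
      exact (Category.assoc _ _ _).symm.trans ((congrArg (· ≫ eqToHom _) h).trans (Category.assoc _ _ _)))
  refine ⟨T, φ, hT, hle _ h₃, hle _ h₂, hle _ h₁, fun k => ?_, quasiIso_unopMap _, quasiIso_unopMap _, quasiIso_unopMap _⟩
  obtain ⟨i₁, i₂, i₃⟩ := hinj (-k)
  exact ⟨(inferInstance : Projective (unop (T'.X₃.X (-k)))), (inferInstance : Projective (unop (T'.X₂.X (-k)))),
    (inferInstance : Projective (unop (T'.X₁.X (-k))))⟩

end Groth.Agent.CxRes
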